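import Groth.Agent.QCoh.AlgGen
import Groth.Prelude.Def_RelProj2

/-!
The quasi-coherent subalgebra generated by a quasi-coherent module; symmetric algebras are generated
by the structure sheaf and the module.
-/

noncomputable section

universe u

set_option backward.isDefEq.respectTransparency false
set_option backward.isDefEq.respectTransparency.types false

open CategoryTheory CategoryTheory.Limits AlgebraicGeometry TopologicalSpace Opposite Groth.Agent.QCoh

namespace Groth.Agent.SymAlgX

variable {S : Scheme.{u}} (B : RelSpec.QCAlg S) {E : S.Modules} (j : E ⟶ B.toModule)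

/-- A value of `j`, in the algebra. -/
abbrev jv (U : S.Opens) (e : Γ(E, U)) : B.presheaf.obj (op U) := j.app U e

/-- The subring generated by the structure sheaf and the image of `j`. -/
def genAt (U : S.Opens) : Subring (B.presheaf.obj (op U)) :=
  Subring.closure (Set.range (B.str.app (op U)).hom ∪ Set.range (jv B j U))

lemma str_mem {U : S.Opens} (a : Γ(S, U)) : (B.str.app (op U)).hom a ∈ genAt B j U :=
  Subring.subset_closure (Or.inl ⟨a, rfl⟩)

lemma jv_mem {U : S.Opens} (e : Γ(E, U)) : jv B j U e ∈ genAt B j U :=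
  Subring.subset_closure (Or.inr ⟨e, rfl⟩)

lemma rB_rB {U V W : S.Opens} (h : V ≤ U) (h' : W ≤ V) (b : B.presheaf.obj (op U)) :
    rB B h' (rB B h b) = rB B (h'.trans h) b :=
  congr($(B.presheaf.map_comp (homOfLE h).op (homOfLE h').op).hom b).symm

lemma rB_self {U : S.Opens} (h : U ≤ U) (b : B.presheaf.obj (op U)) : rB B h b = b :=
  congr($(B.presheaf.map_id (op U)).hom b)

lemma rB_jv {U V : S.Opens} (h : V ≤ U) (e : Γ(E, U)) :
    rB B h (jv B j U e) = jv B j V (E.presheaf.map (homOfLE h).op e) :=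
  (map_app_comm j (homOfLE h) e).symm

lemma rB_mem {U V : S.Opens} (h : V ≤ U) {b} (hb : b ∈ genAt B j U) : rB B h b ∈ genAt B j V := by
  induction hb using Subring.closure_induction with
  | mem x hx =>
    rcases hx with ⟨a, rfl⟩ | ⟨e, rfl⟩
    · rw [rB_str]; exact str_mem B j _
    · rw [rB_jv]; exact jv_mem B j _
  | zero => rw [map_zero]; exact zero_mem _
  | one => rw [map_one]; exact one_mem _
  | add x y _ _ hx hy => rw [map_add]; exact add_mem hx hy
  | neg x _ hx => rw [map_neg]; exact neg_mem hx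
  | mul x y _ _ hx hy => rw [map_mul]; exact mul_mem hx hy

variable (hE : Coh.IsQCoh E)

include hE in
lemma exists_lift {U : S.Opens} (hU : IsAffineOpen U) (g : Γ(S, U)) {y}
    (hy : y ∈ genAt B j (S.basicOpen g)) :
    ∃ (n : ℕ), ∃ c ∈ genAt B j U, rB B (S.basicOpen_le g) c =
      (B.str.app (op (S.basicOpen g))).hom (rf S (S.basicOpen_le g) g) ^ n * y := by
  induction hy using Subring.closure_induction with
  | mem x hx =>
    rcases hx with ⟨a, rfl⟩ | ⟨e, rfl⟩
    · haveI := hU.isLocalization_basicOpen g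
      obtain ⟨⟨c, _, k, rfl⟩, hc⟩ := IsLocalization.surj (Submonoid.powers g) a
      refine ⟨k, _, str_mem B j c, ?_⟩
      have hc' : rf S (S.basicOpen_le g) c = rf S (S.basicOpen_le g) g ^ k * a := by
        rw [rf, ← map_pow, mul_comm]
        exact hc.symm
      rw [rB_str, hc', map_mul, map_pow]
    · obtain ⟨n, t, ht⟩ := exists_pow_smul_eq_map hE hU g e
      refine ⟨n, jv B j U t, jv_mem B j t, ?_⟩
      rw [rB_jv]
      refine (congrArg (jv B j (S.basicOpen g)) ht).trans ((Scheme.Modules.Hom.app_smul j _ _).trans ?_)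
      show (B.str.app (op (S.basicOpen g))).hom (rf S (S.basicOpen_le g) g ^ n) * _ = _
      rw [map_pow]
  | zero => exact ⟨0, 0, zero_mem _, by simp⟩
  | one => exact ⟨0, 1, one_mem _, by simp⟩
  | add x y _ _ hx hy =>
    obtain ⟨n, c, hc, hcx⟩ := hx
    obtain ⟨m, d, hd, hdy⟩ := hy
    refine ⟨n + m, (B.str.app (op U)).hom g ^ m * c + (B.str.app (op U)).hom g ^ n * d,
      add_mem (mul_mem (pow_mem (str_mem B j g) _) hc) (mul_mem (pow_mem (str_mem B j g) _) hd), ?_⟩
    rw [map_add, map_mul, map_mul, map_pow, map_pow, rB_str, hcx, hdy]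
    ring
  | neg x _ hx =>
    obtain ⟨n, c, hc, hcx⟩ := hx
    exact ⟨n, -c, neg_mem hc, by rw [map_neg, hcx]; ring⟩
  | mul x y _ _ hx hy =>
    obtain ⟨n, c, hc, hcx⟩ := hx
    obtain ⟨m, d, hd, hdy⟩ := hy
    exact ⟨n + m, c * d, mul_mem hc hd, by rw [map_mul, hcx, hdy]; ring⟩

/-- The sections of the generated subalgebra. -/
def mem (O : S.Opens) : Subring (B.presheaf.obj (op O)) where
  carrier := {s | ∀ (U : S.Opens) (_ : IsAffineOpen U) (h : U ≤ O), rB B h s ∈ genAt B j U}
  zero_mem' U _ h := by rw [map_zero]; exact zero_mem _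
  one_mem' U _ h := by rw [map_one]; exact one_mem _
  add_mem' ha hb U hU h := by rw [map_add]; exact add_mem (ha U hU h) (hb U hU h)
  mul_mem' ha hb U hU h := by rw [map_mul]; exact mul_mem (ha U hU h) (hb U hU h)
  neg_mem' ha U hU h := by rw [map_neg]; exact neg_mem (ha U hU h)

lemma mem_of_genAt {O : S.Opens} {s} (hs : s ∈ genAt B j O) : s ∈ mem B j O :=
  fun _ _ h => rB_mem B j h hs

lemma genAt_of_mem {O : S.Opens} (hO : IsAffineOpen O) {s} (hs : s ∈ mem B j O) : s ∈ genAt B j O := by
  have := hs O hO le_rfl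
  rwa [rB_self] at this

lemma rB_mem' {U V : S.Opens} (h : V ≤ U) {b} (hb : b ∈ mem B j U) : rB B h b ∈ mem B j V :=
  fun W hW hWV => by rw [rB_rB]; exact hb W hW _

include hE in
lemma mem_of_locally {O : S.Opens} (s : B.presheaf.obj (op O))
    (h : ∀ x ∈ O, ∃ (P : S.Opens) (hP : P ≤ O), x ∈ P ∧ rB B hP s ∈ mem B j P) : s ∈ mem B j O := by
  intro U hU hUO
  let b := rB B hUO s
  let bM : Γ(B.toModule, U) := b
  let I : Ideal Γ(S, U) :=
  { carrier := {a | (B.str.app (op U)).hom a * b ∈ genAt B j U}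
    zero_mem' := by
      show (B.str.app (op U)).hom 0 * b ∈ genAt B j U
      rw [map_zero, zero_mul]; exact zero_mem _
    add_mem' := fun {a c} ha hc => by
      show (B.str.app (op U)).hom (a + c) * b ∈ genAt B j U
      rw [map_add, add_mul]; exact add_mem ha hc
    smul_mem' := fun r a ha => by
      show (B.str.app (op U)).hom (r * a) * b ∈ genAt B j U
      rw [map_mul, mul_assoc]; exact mul_mem (str_mem B j r) ha }
  have hI : I.radical = ⊤ := by
    refine top_unique ((hU.self_le_iSup_basicOpen_iff (s := (I.radical : Set Γ(S, U)))).1 ?_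
      |>.ge.trans (Ideal.span_le.2 subset_rfl))
    intro x hx
    obtain ⟨P, hP, hxP, hPm⟩ := h x (hUO hx)
    obtain ⟨g, hgP, hxg⟩ := hU.exists_basicOpen_le (V := P) ⟨x, hxP⟩ hx
    have hD := hPm (S.basicOpen g) (hU.basicOpen g) hgP
    rw [rB_rB] at hD
    have hD' : rB B (S.basicOpen_le g) b ∈ genAt B j (S.basicOpen g) := by rw [rB_rB]; exact hD
    obtain ⟨n, c, hc, hcb⟩ := exists_lift B j hE hU g hD'
    have h0 : rs B.toModule (S.basicOpen_le g) (g ^ n • bM - (show Γ(B.toModule, U) from c)) = 0 := by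
      show rB B (S.basicOpen_le g) ((B.str.app (op U)).hom (g ^ n) * b - c) = 0
      rw [map_sub, map_mul, map_pow, map_pow, rB_str, hcb, sub_self]
    obtain ⟨m, hm⟩ := exists_pow_smul_eq_zero (isQCoh_toModule B) hU g _ h0
    refine Opens.mem_iSup.2 ⟨⟨g, ⟨m + n, ?_⟩⟩, hxg⟩
    show (B.str.app (op U)).hom (g ^ (m + n)) * b ∈ genAt B j U
    have hm' : (B.str.app (op U)).hom (g ^ m) * ((B.str.app (op U)).hom (g ^ n) * b - c) = 0 := hm
    rw [mul_sub, sub_eq_zero, ← mul_assoc, ← map_mul, ← pow_add] at hm'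
    rw [hm']
    exact mul_mem (str_mem B j _) hc
  have h1 : (1 : Γ(S, U)) ∈ I := (Ideal.eq_top_iff_one _).1 (Ideal.radical_eq_top.1 hI)
  have h2 : (B.str.app (op U)).hom 1 * b ∈ genAt B j U := h1
  rwa [map_one, one_mul] at h2

/-- The presheaf of the generated subalgebra. -/
def subPre : TopCat.Presheaf CommRingCat.{u} S.carrier where
  obj O := CommRingCat.of (mem B j O.unop)
  map {O O'} i := CommRingCat.ofHom
    (((rB B (leOfHom i.unop)).comp (mem B j O.unop).subtype).codRestrict _ fun b => rB_mem' B j _ b.2)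
  map_id O := by
    ext b
    exact rB_self B _ b.1
  map_comp {O O' O''} i i' := by
    ext b
    exact (rB_rB B (leOfHom i.unop) (leOfHom i'.unop) b.1).symm

include hE in
lemma isSheaf_subPre : (subPre B j).IsSheaf := by
  refine (TopCat.Presheaf.isSheaf_iff_isSheaf_comp (forget CommRingCat) _).2 ?_
  rw [TopCat.Presheaf.isSheaf_iff_isSheafUniqueGluing_types]
  intro ι U sf hsf
  let Bsh : TopCat.Sheaf CommRingCat.{u} S.carrier := ⟨B.presheaf, B.isSheaf⟩
  obtain ⟨s, hs, huniq⟩ := TopCat.Sheaf.existsUnique_gluing Bsh U (fun i => (sf i).1)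
    (fun a b => congrArg Subtype.val (hsf a b))
  refine ⟨⟨s, mem_of_locally B j hE s fun x hx => ?_⟩, fun i => Subtype.ext (hs i), fun t ht => ?_⟩
  · obtain ⟨i, hi⟩ := Opens.mem_iSup.1 hx
    refine ⟨U i, le_iSup U i, hi, ?_⟩
    exact (show (rB B (le_iSup U i) s) = (sf i).1 from hs i) ▸ (sf i).2
  · exact Subtype.ext (huniq t.1 fun i => congrArg Subtype.val (ht i))

/-- The structure map of the generated subalgebra. -/
def subStr : S.presheaf ⟶ subPre B j where
  app O := CommRingCat.ofHom
    ((B.str.app O).hom.codRestrict _ fun a => mem_of_genAt B j (str_mem B j a))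
  naturality O O' i := by
    ext a
    exact Subtype.ext congr($(B.str.naturality i).hom a)

include hE in
lemma isQC_sub : RelSpec.IsQC (subPre B j) (subStr B j) := by
  intro U hU f
  letI := (B.presheaf.map (homOfLE (S.basicOpen_le f)).op).hom.toAlgebra
  haveI := B.isQC U hU f
  letI := ((subPre B j).map (homOfLE (S.basicOpen_le f)).op).hom.toAlgebra
  refine (isLocalization_iff _ _).2 ⟨?_, fun z => ?_, fun {a b} e => ?_⟩
  · rintro ⟨_, n, rfl⟩
    rw [map_pow]
    refine IsUnit.pow n ?_
    exact congr($((subStr B j).naturality (homOfLE (S.basicOpen_le f)).op).hom f) ▸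
      (QCoh.isUnit_rf_basicOpen f).map ((subStr B j).app (op (S.basicOpen f))).hom
  · obtain ⟨n, c, hc, hcz⟩ := exists_lift B j hE hU f (genAt_of_mem B j (hU.basicOpen f) z.2)
    refine ⟨⟨⟨c, mem_of_genAt B j hc⟩, _, n, rfl⟩, Subtype.ext ?_⟩
    show (show B.presheaf.obj (op (S.basicOpen f)) from z.1) *
      rB B (S.basicOpen_le f) (((show mem B j U from ((subStr B j).app (op U)).hom f ^ n) : B.presheaf.obj (op U))) =
        rB B (S.basicOpen_le f) c
    rw [hcz, SubmonoidClass.coe_pow, map_pow]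
    rw [show ((show mem B j U from ((subStr B j).app (op U)).hom f) : B.presheaf.obj (op U)) = (B.str.app (op U)).hom f from rfl,
      rB_str, mul_comm]
  · obtain ⟨⟨_, n, rfl⟩, hn⟩ := IsLocalization.exists_of_eq (M := Submonoid.powers ((B.str.app (op U)).hom f))
      (S := B.presheaf.obj (op (S.basicOpen f))) (congrArg Subtype.val e)
    exact ⟨⟨_, n, rfl⟩, Subtype.ext (by
      show (show mem B j U from ((subStr B j).app (op U)).hom f ^ n).1 * a.1 = (show mem B j U from ((subStr B j).app (op U)).hom f ^ n).1 * b.1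
      rw [SubmonoidClass.coe_pow]
      exact hn)⟩

/-- The quasi-coherent subalgebra generated by `E`. -/
def sub : RelSpec.QCAlg S := ⟨subPre B j, isSheaf_subPre B j hE, subStr B j, isQC_sub B j hE⟩

/-- The inclusion. -/
def incl : sub B j hE ⟶ B :=
  ⟨{ app := fun O => CommRingCat.ofHom (mem B j O.unop).subtype
     naturality := fun _ _ _ => rfl }, rfl⟩

/-- `j`, with values in the generated subalgebra. -/
def jSub : E ⟶ (sub B j hE).toModule :=
  ⟨PresheafOfModules.homMk
    { app := fun O => AddCommGrpCat.ofHom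
        { toFun := fun e => (⟨jv B j O.unop e, mem_of_genAt B j (jv_mem B j e)⟩ : mem B j O.unop)
          map_zero' := Subtype.ext (map_zero (j.app O.unop).hom)
          map_add' := fun a b => Subtype.ext (map_add (j.app O.unop).hom a b) }
      naturality := fun O O' i => by
        ext e
        exact Subtype.ext (map_app_comm j i.unop e) }
    fun O r e => Subtype.ext (Scheme.Modules.Hom.app_smul j r e)⟩

theorem jSub_incl : jSub B j hE ≫ RelSpec.QCAlg.Hom.toModuleMap (incl B j hE) = j :=
  SheafOfModules.hom_ext (PresheafOfModules.hom_ext fun _ => rfl)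

variable {B j}

include hE in
/-- A symmetric algebra is generated, over every affine open, by the structure sheaf and the module. -/
theorem genAt_eq_top (hA : RelSpec.IsSymAlg E B j) {U : S.Opens} (hU : IsAffineOpen U) :
    genAt B j U = ⊤ := by
  obtain ⟨ψ, hψ, -⟩ := hA (sub B j hE) (jSub B j hE)
  have h : ψ ≫ incl B j hE = 𝟙 B := (hA B j).unique
    (show j ≫ RelSpec.QCAlg.Hom.toModuleMap (ψ ≫ incl B j hE) = j from
      (show RelSpec.QCAlg.Hom.toModuleMap (ψ ≫ incl B j hE) =
          RelSpec.QCAlg.Hom.toModuleMap ψ ≫ RelSpec.QCAlg.Hom.toModuleMap (incl B j hE) from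
        SheafOfModules.hom_ext (PresheafOfModules.hom_ext fun _ => rfl)) ▸ by
          rw [← Category.assoc, hψ, jSub_incl])
    (show j ≫ RelSpec.QCAlg.Hom.toModuleMap (𝟙 B) = j from
      (show RelSpec.QCAlg.Hom.toModuleMap (𝟙 B) = 𝟙 _ from
        SheafOfModules.hom_ext (PresheafOfModules.hom_ext fun _ => rfl)) ▸ Category.comp_id j)
  refine eq_top_iff.2 fun b _ => ?_
  have hb := congrArg (fun φ : B ⟶ B => (φ.hom.app (op U)).hom b) h
  have hb' : ((show mem B j U from (ψ.hom.app (op U)).hom b) : B.presheaf.obj (op U)) = b := hb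
  exact genAt_of_mem B j hU (hb' ▸ (show mem B j U from (ψ.hom.app (op U)).hom b).2)

/-- The graded symmetric algebra is generated in degree one. -/
theorem isGenDegOne (hE : Coh.IsQCoh E) {𝒮 : RelProj.QCGrAlg S} {j : E ⟶ 𝒮.toModule}
    (hj : RelProj.IsGrSymAlg E 𝒮 j) : 𝒮.IsGenDegOne := fun U hU => by
  refine eq_top_iff.2 ((genAt_eq_top hE hj.1 hU).ge.trans (Subring.closure_mono ?_))
  rintro x (⟨a, rfl⟩ | ⟨e, rfl⟩)
  · exact Or.inl (𝒮.str_mem U hU a)
  · exact Or.inr (hj.2 U hU e)

end Groth.Agent.SymAlgX
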