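import Groth.Agent.SymAlgX.OfAffine
import Groth.Agent.SymAlgX.Gen
import Mathlib.LinearAlgebra.SymmetricAlgebra.Basic
import Mathlib.Algebra.Module.LocalizedModule.Basic
import Mathlib.RingTheory.Localization.Away.Basic

/-!
Existence of symmetric algebras of quasi-coherent modules; their sections over affine opens.
-/

noncomputable section

universe u

set_option backward.isDefEq.respectTransparency false
set_option backward.isDefEq.respectTransparency.types false

open CategoryTheory CategoryTheory.Limits AlgebraicGeometry TopologicalSpace Opposite Groth.Agent.QCoh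

namespace Groth.Agent.SymAlgX

variable {S : Scheme.{u}} (E : S.Modules)

/-- The symmetric algebra of the sections on an open. -/
abbrev SymAt (U : S.Opens) : Type u := SymmetricAlgebra Γ(S, U) Γ(E, U)

variable {E}

/-- Restriction of functions, as a ring homomorphism. -/
abbrev rfH {U V : S.Opens} (h : V ≤ U) : Γ(S, U) →+* Γ(S, V) := (S.presheaf.map (homOfLE h).op).hom

/-- Extend a semilinear map to the symmetric algebra. -/
def liftHom {U : S.Opens} {C : Type u} [CommRing C] (g : Γ(S, U) →+* C) (v : Γ(E, U) →+ C)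
    (h : ∀ (r : Γ(S, U)) (e : Γ(E, U)), v (r • e) = g r * v e) : SymAt E U →+* C :=
  letI : Algebra Γ(S, U) C := g.toAlgebra
  (SymmetricAlgebra.lift (A := C)
    { toFun := v
      map_add' := map_add v
      map_smul' := fun r e => (h r e).trans (Algebra.smul_def r (v e)).symm }).toRingHom

lemma liftHom_ι {U : S.Opens} {C : Type u} [CommRing C] (g : Γ(S, U) →+* C) (v : Γ(E, U) →+ C)
    (h : ∀ (r : Γ(S, U)) (e : Γ(E, U)), v (r • e) = g r * v e) (e : Γ(E, U)) :
    liftHom g v h (SymmetricAlgebra.ι _ _ e) = v e :=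
  letI : Algebra Γ(S, U) C := g.toAlgebra
  SymmetricAlgebra.lift_ι_apply _ e

lemma liftHom_algebraMap {U : S.Opens} {C : Type u} [CommRing C] (g : Γ(S, U) →+* C) (v : Γ(E, U) →+ C)
    (h : ∀ (r : Γ(S, U)) (e : Γ(E, U)), v (r • e) = g r * v e) (r : Γ(S, U)) :
    liftHom g v h (algebraMap Γ(S, U) (SymAt E U) r) = g r :=
  letI : Algebra Γ(S, U) C := g.toAlgebra
  AlgHom.commutes (SymmetricAlgebra.lift (A := C) _) r

lemma symHom_ext {U : S.Opens} {C : Type u} [CommRing C] {a b : SymAt E U →+* C}
    (h₁ : ∀ r : Γ(S, U), a (algebraMap _ _ r) = b (algebraMap _ _ r))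
    (h₂ : ∀ e : Γ(E, U), a (SymmetricAlgebra.ι _ _ e) = b (SymmetricAlgebra.ι _ _ e)) : a = b :=
  RingHom.ext fun x => by
    induction x using SymmetricAlgebra.induction with
    | algebraMap r => exact h₁ r
    | ι e => exact h₂ e
    | mul p q hp hq => rw [map_mul, map_mul, hp, hq]
    | add p q hp hq => rw [map_add, map_add, hp, hq]

/-- Restriction of the symmetric algebras. -/
def symRes {U V : S.Opens} (h : V ≤ U) : SymAt E U →+* SymAt E V :=
  liftHom ((algebraMap Γ(S, V) (SymAt E V)).comp (rfH h))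
    ((SymmetricAlgebra.ι Γ(S, V) Γ(E, V)).toAddMonoidHom.comp (E.presheaf.map (homOfLE h).op).hom)
    fun r e => by
      show SymmetricAlgebra.ι Γ(S, V) Γ(E, V) (E.presheaf.map (homOfLE h).op (r • e)) = _
      rw [map_smul', map_smul, Algebra.smul_def]
      rfl

lemma symRes_algebraMap {U V : S.Opens} (h : V ≤ U) (r : Γ(S, U)) :
    symRes (E := E) h (algebraMap _ _ r) = algebraMap _ _ (rf S h r) := liftHom_algebraMap _ _ _ r

lemma symRes_ι {U V : S.Opens} (h : V ≤ U) (e : Γ(E, U)) :
    symRes h (SymmetricAlgebra.ι _ _ e) = SymmetricAlgebra.ι _ _ (E.presheaf.map (homOfLE h).op e) :=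
  liftHom_ι _ _ _ e

variable (E)

/-- The symmetric algebras on the affine opens. -/
def symFunctor : S.AffineZariskiSiteᵒᵖ ⥤ CommRingCat.{u} where
  obj U := CommRingCat.of (SymAt E U.unop.1)
  map {U V} i := CommRingCat.ofHom (symRes (Scheme.AffineZariskiSite.toOpens_mono (leOfHom i.unop)))
  map_id U := by
    refine CommRingCat.hom_ext (symHom_ext (fun r => ?_) fun e => ?_)
    · refine (symRes_algebraMap _ r).trans ?_
      show algebraMap _ (SymAt E U.unop.1) _ = algebraMap _ _ r
      exact congrArg _ (ringMap_id _ r)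
    · refine (symRes_ι _ e).trans ?_
      show SymmetricAlgebra.ι _ _ _ = SymmetricAlgebra.ι _ _ e
      exact congrArg _ (map_id' _ e)
  map_comp {U V W} i j := by
    refine CommRingCat.hom_ext (symHom_ext (fun r => ?_) fun e => ?_)
    · refine (symRes_algebraMap _ r).trans ?_
      show _ = symRes _ (symRes _ (algebraMap _ _ r))
      rw [symRes_algebraMap, symRes_algebraMap]
      exact congrArg _ (ringMap_map _ _ r).symm
    · refine (symRes_ι _ e).trans ?_
      show _ = symRes _ (symRes _ (SymmetricAlgebra.ι _ _ e))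
      rw [symRes_ι, symRes_ι]
      exact congrArg _ (map_map _ _ e).symm

/-- The structure maps. -/
def symStr : (Scheme.AffineZariskiSite.toOpensFunctor S).op ⋙ S.presheaf ⟶ symFunctor E where
  app U := CommRingCat.ofHom (algebraMap Γ(S, U.unop.1) (SymAt E U.unop.1))
  naturality U V i := by
    ext r
    exact (symRes_algebraMap (Scheme.AffineZariskiSite.toOpens_mono (leOfHom i.unop)) r).symm

variable {E} (hE : Coh.IsQCoh E)

include hE in
theorem symRes_isLocalization {U : S.Opens} (hU : IsAffineOpen U) (f : Γ(S, U)) :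
    letI := (symRes (E := E) (S.basicOpen_le f)).toAlgebra
    IsLocalization.Away (algebraMap Γ(S, U) (SymAt E U) f) (SymAt E (S.basicOpen f)) := by
  let D := S.basicOpen f
  let h : D ≤ U := S.basicOpen_le f
  letI := (symRes (E := E) h).toAlgebra
  let F := algebraMap Γ(S, U) (SymAt E U) f
  have hu : IsUnit (algebraMap (SymAt E U) (SymAt E D) F) := by
    show IsUnit (symRes h F)
    rw [symRes_algebraMap]
    exact (isUnit_rf_basicOpen f).map _
  refine (isLocalization_iff _ _).2 ⟨?_, fun z => ?_, fun {a b} e => ?_⟩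
  · rintro ⟨_, n, rfl⟩
    rw [map_pow]
    exact hu.pow n
  · suffices h' : ∃ (n : ℕ) (a : SymAt E U), z * symRes h F ^ n = symRes h a by
      obtain ⟨n, a, ha⟩ := h'
      exact ⟨⟨a, _, n, rfl⟩, by rw [map_pow]; exact ha⟩
    induction z using SymmetricAlgebra.induction with
    | algebraMap r =>
      haveI := hU.isLocalization_basicOpen f
      obtain ⟨⟨c, _, k, rfl⟩, hc⟩ := IsLocalization.surj (Submonoid.powers f) r
      refine ⟨k, algebraMap _ _ c, ?_⟩
      rw [symRes_algebraMap, symRes_algebraMap, ← map_pow, ← map_mul]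
      refine congrArg _ ?_
      rw [show rf S h c = _ from hc.symm]
      congr 1
      exact (map_pow _ _ _).symm
    | ι x =>
      obtain ⟨n, t, ht⟩ := exists_pow_smul_eq_map hE hU f x
      refine ⟨n, SymmetricAlgebra.ι _ _ t, ?_⟩
      rw [symRes_ι, show E.presheaf.map (homOfLE h).op t = _ from ht, map_smul, Algebra.smul_def,
        symRes_algebraMap, map_pow, mul_comm]
    | mul p q hp hq =>
      obtain ⟨n, a, ha⟩ := hp
      obtain ⟨m, b, hb⟩ := hq
      exact ⟨n + m, a * b, by rw [map_mul, ← ha, ← hb, pow_add]; ring⟩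
    | add p q hp hq =>
      obtain ⟨n, a, ha⟩ := hp
      obtain ⟨m, b, hb⟩ := hq
      refine ⟨n + m, a * F ^ m + b * F ^ n, ?_⟩
      rw [map_add, map_mul, map_mul, map_pow, map_pow, ← ha, ← hb, pow_add]; ring
  · -- retraction to the localization
    haveI := hU.isLocalization_basicOpen f
    letI : Algebra Γ(S, U) Γ(S, D) := (S.presheaf.map (homOfLE h).op).hom.toAlgebra
    let L := Localization.Away F
    let g : Γ(S, U) →+* L := (algebraMap (SymAt E U) L).comp (algebraMap Γ(S, U) (SymAt E U))
    have hgu : ∀ y : Submonoid.powers f, IsUnit (g y) := by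
      rintro ⟨_, n, rfl⟩
      rw [map_pow]
      exact (IsLocalization.Away.algebraMap_isUnit F).pow n
    let gD : Γ(S, D) →+* L := IsLocalization.lift (M := Submonoid.powers f) hgu
    letI : Module Γ(S, U) Γ(E, D) := Module.compHom _ (rfH h)
    let resE : Γ(E, U) →ₗ[Γ(S, U)] Γ(E, D) :=
      { toFun := E.presheaf.map (homOfLE h).op
        map_add' := map_add _
        map_smul' := fun r e => map_smul' (homOfLE h) r e }
    haveI hloc : IsLocalizedModule (Submonoid.powers f) resE := by
      constructor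
      · rintro ⟨_, n, rfl⟩
        rw [Module.End.isUnit_iff]
        have hu' : IsUnit (rfH h (f ^ n)) := by rw [map_pow]; exact (isUnit_rf_basicOpen f).pow n
        obtain ⟨v, hv⟩ := hu'
        exact Function.bijective_iff_has_inverse.2 ⟨fun x => (↑v⁻¹ : Γ(S, D)) • x, fun x => by
          show (↑v⁻¹ : Γ(S, D)) • rfH h (f ^ n) • x = x
          rw [smul_smul, ← hv, Units.inv_mul, one_smul], fun x => by
          show rfH h (f ^ n) • (↑v⁻¹ : Γ(S, D)) • x = x
          rw [smul_smul, ← hv, Units.mul_inv, one_smul]⟩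
      · intro y
        obtain ⟨n, t, ht⟩ := exists_pow_smul_eq_map hE hU f y
        refine ⟨⟨t, _, n, rfl⟩, ?_⟩
        show rfH h (f ^ n) • y = E.presheaf.map (homOfLE h).op t
        rw [map_pow]
        exact ht.symm
      · intro x₁ x₂ hx
        obtain ⟨n, hn⟩ := exists_pow_smul_eq_zero hE hU f (x₁ - x₂) (by
          rw [map_sub]; exact sub_eq_zero.2 hx)
        exact ⟨⟨_, n, rfl⟩, by rwa [smul_sub, sub_eq_zero] at hn⟩
    let j₀ : Γ(E, U) →ₗ[Γ(S, U)] L :=
      { toFun := fun e => algebraMap (SymAt E U) L (SymmetricAlgebra.ι _ _ e)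
        map_add' := fun a b => by rw [map_add, map_add]
        map_smul' := fun r e => by
          rw [map_smul, Algebra.smul_def, map_mul, RingHom.id_apply, Algebra.smul_def]
          rfl }
    have hj₀ : ∀ y : Submonoid.powers f, IsUnit (algebraMap Γ(S, U) (Module.End Γ(S, U) L) y) := fun y => by
      rw [Module.End.isUnit_iff]
      obtain ⟨w, hw⟩ := hgu y
      exact Function.bijective_iff_has_inverse.2 ⟨fun x => (↑w⁻¹ : L) * x, fun x => by
        rw [Module.algebraMap_end_apply, Algebra.smul_def]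
        show (↑w⁻¹ : L) * (g y * x) = x
        rw [← mul_assoc, ← hw, Units.inv_mul, one_mul], fun x => by
        rw [Module.algebraMap_end_apply, Algebra.smul_def]
        show g y * ((↑w⁻¹ : L) * x) = x
        rw [← mul_assoc, ← hw, Units.mul_inv, one_mul]⟩
    let vD : Γ(E, D) →ₗ[Γ(S, U)] L := IsLocalizedModule.lift (Submonoid.powers f) resE j₀ hj₀
    have hvD : ∀ (r : Γ(S, D)) (x : Γ(E, D)), vD (r • x) = gD r * vD x := by
      intro r x
      obtain ⟨⟨c, s⟩, hc⟩ := IsLocalization.surj (Submonoid.powers f) r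
      refine (hgu s).mul_left_cancel ?_
      have h1 : vD ((s : Γ(S, U)) • (r • x)) = g s * vD (r • x) := (vD.map_smul _ _).trans (Algebra.smul_def _ _)
      have h2 : vD (c • x) = g c * vD x := (vD.map_smul _ _).trans (Algebra.smul_def _ _)
      have h3 : (s : Γ(S, U)) • (r • x) = c • x := by
        show rf S h s.1 • (r • x) = rf S h c • x
        rw [smul_smul, mul_comm]
        exact congrArg (· • x) hc
      rw [← h1, h3, h2, ← mul_assoc, mul_comm (g s) (gD r)]
      congr 1
      have h4 := congrArg gD hc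
      rw [map_mul, show gD (algebraMap Γ(S, U) Γ(S, D) s) = g s from IsLocalization.lift_eq hgu _,
        show gD (algebraMap Γ(S, U) Γ(S, D) c) = g c from IsLocalization.lift_eq hgu _] at h4
      exact h4.symm
    let Θ : SymAt E D →+* L := liftHom gD vD.toAddMonoidHom hvD
    have hΘ : Θ.comp (symRes h) = algebraMap (SymAt E U) L := by
      refine symHom_ext (fun r => ?_) fun x => ?_
      · rw [RingHom.comp_apply, symRes_algebraMap, liftHom_algebraMap]
        exact IsLocalization.lift_eq hgu r
      · rw [RingHom.comp_apply, symRes_ι, liftHom_ι]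
        exact IsLocalizedModule.lift_apply (Submonoid.powers f) resE j₀ hj₀ x
    have he := congrArg Θ e
    change Θ.comp (symRes h) a = Θ.comp (symRes h) b at he
    rw [hΘ] at he
    exact IsLocalization.exists_of_eq (M := Submonoid.powers F) he

include hE in
theorem symStr_coequifibered : (symStr E).Coequifibered := by
  rw [Scheme.AffineZariskiSite.coequifibered_iff_forall_isLocalizationAway]
  exact fun U f => symRes_isLocalization hE U.2 f

/-- The symmetric algebra. -/
def symAlg : RelSpec.QCAlg S := ofAffine (symStr_coequifibered hE)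

/-- Its sections over an affine open. -/
abbrev symSec (U : S.AffineZariskiSite) :
    (symAlg hE).presheaf.obj (op U.1) ≅ CommRingCat.of (SymAt E U.1) :=
  @asIso _ _ _ _ (secHom (symStr_coequifibered hE) U) (isIso_secHom _ U)

/-- The underlying abelian sheaf of the symmetric algebra. -/
def symAb : TopCat.Sheaf AddCommGrpCat.{u} S.carrier := ⟨(symAlg hE).toAb, (symAlg hE).isSheaf_toAb⟩

/-- `ι` over the affine opens. -/
def symJRestrict : (Scheme.AffineZariskiSite.toOpensFunctor S).op ⋙ E.presheaf ⟶
    (Scheme.AffineZariskiSite.toOpensFunctor S).op ⋙ (symAlg hE).toAb where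
  app U := AddCommGrpCat.ofHom
    ((symSec hE U.unop).inv.hom.toAddMonoidHom.comp
      (SymmetricAlgebra.ι Γ(S, U.unop.1) Γ(E, U.unop.1)).toAddMonoidHom)
  naturality U V i := by
    ext e
    apply (ConcreteCategory.bijective_of_isIso (symSec hE V.unop).hom).1
    have hi := Scheme.AffineZariskiSite.toOpens_mono (leOfHom i.unop)
    show (symSec hE V.unop).hom ((symSec hE V.unop).inv
        (SymmetricAlgebra.ι _ _ (E.presheaf.map (homOfLE hi).op e))) =
      secHom (symStr_coequifibered hE) V.unop ((symAlg hE).presheaf.map (homOfLE hi).op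
        ((symSec hE U.unop).inv (SymmetricAlgebra.ι _ _ e)))
    rw [Iso.inv_hom_id_apply]
    refine Eq.trans ?_ (ConcreteCategory.congr_hom (secHom_natural (symStr_coequifibered hE) i.unop) _).symm
    show _ = symRes hi ((symSec hE U.unop).hom ((symSec hE U.unop).inv _))
    rw [Iso.inv_hom_id_apply, symRes_ι]

/-- `j` on abelian presheaves. -/
def symJAb : E.presheaf ⟶ (symAlg hE).toAb :=
  Functor.IsCoverDense.restrictHomEquivHom (G := Scheme.AffineZariskiSite.toOpensFunctor S)
    (K := Opens.grothendieckTopology S) (ℱ := E.presheaf) (ℱ' := symAb hE) (symJRestrict hE)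

lemma symJAb_app {U : S.Opens} (hU : IsAffineOpen U) (e : Γ(E, U)) :
    (symJAb hE).app (op U) e = (symSec hE ⟨U, hU⟩).inv (SymmetricAlgebra.ι _ _ e) :=
  ConcreteCategory.congr_hom (NatTrans.congr_app ((Functor.IsCoverDense.restrictHomEquivHom
    (G := Scheme.AffineZariskiSite.toOpensFunctor S) (K := Opens.grothendieckTopology S) (ℱ := E.presheaf)
    (ℱ' := symAb hE)).symm_apply_apply (symJRestrict hE)) (op ⟨U, hU⟩)) e

lemma symStr_secHom {U : S.Opens} (hU : IsAffineOpen U) (r : Γ(S, U)) :
    secHom (symStr_coequifibered hE) ⟨U, hU⟩ ((symAlg hE).str.app (op U) r) = algebraMap _ (SymAt E U) r :=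
  ConcreteCategory.congr_hom (str_secHom (symStr_coequifibered hE) ⟨U, hU⟩) r

/-- The canonical map. -/
def symJ : E ⟶ (symAlg hE).toModule :=
  ⟨PresheafOfModules.homMk (symJAb hE) fun O r e => by
    refine sub_eq_zero.1 (eq_zero_of_locally (M := (symAlg hE).toModule) O.unop _ fun x hx => ?_)
    obtain ⟨_, ⟨U, hU, rfl⟩, hxU, hUO⟩ := S.isBasis_affineOpens.exists_subset_of_mem_open hx O.unop.2
    refine ⟨U, homOfLE hUO, hxU, ?_⟩
    have hn : ∀ z : Γ(E, O.unop), rB (symAlg hE) hUO ((symJAb hE).app O z) =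
        (symJAb hE).app (op U) (E.presheaf.map (homOfLE hUO).op z) := fun z =>
      (ConcreteCategory.congr_hom ((symJAb hE).naturality (homOfLE hUO).op) z).symm
    show rB (symAlg hE) hUO ((symJAb hE).app O (r • e) - (symAlg hE).str.app O r * (symJAb hE).app O e) = 0
    rw [map_sub, map_mul, hn, hn, sub_eq_zero, symJAb_app hE hU, symJAb_app hE hU,
      show rB (symAlg hE) hUO ((symAlg hE).str.app O r) = (symAlg hE).str.app (op U) (rf S hUO r) from
        rB_str (symAlg hE) hUO r]
    apply (ConcreteCategory.bijective_of_isIso (symSec hE ⟨U, hU⟩).hom).1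
    show (symSec hE ⟨U, hU⟩).hom _ = secHom (symStr_coequifibered hE) ⟨U, hU⟩ _
    rw [map_mul, symStr_secHom]
    show (symSec hE ⟨U, hU⟩).hom _ = _ * (symSec hE ⟨U, hU⟩).hom _
    rw [Iso.inv_hom_id_apply, Iso.inv_hom_id_apply]
    show SymmetricAlgebra.ι Γ(S, U) Γ(E, U) _ = algebraMap Γ(S, U) (SymAt E U) _ * _
    refine (congrArg _ (map_smul' (homOfLE hUO) r e)).trans ?_
    rw [map_smul, Algebra.smul_def]
    rfl⟩

lemma symJ_secHom {U : S.Opens} (hU : IsAffineOpen U) (e : Γ(E, U)) :
    (symSec hE ⟨U, hU⟩).hom (jv (symAlg hE) (symJ hE) U e) = SymmetricAlgebra.ι _ _ e := by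
  show (symSec hE ⟨U, hU⟩).hom ((symJAb hE).app (op U) e) = _
  rw [symJAb_app hE hU, Iso.inv_hom_id_apply]

variable (B : RelSpec.QCAlg S) (φ : E ⟶ B.toModule)

/-- The lift on one open. -/
def liftAt (U : S.Opens) : SymAt E U →+* B.presheaf.obj (op U) :=
  liftHom (E := E) (C := B.presheaf.obj (op U)) (B.str.app (op U)).hom
    (show Γ(E, U) →+ B.presheaf.obj (op U) from (φ.app U).hom) (fun r e => Scheme.Modules.Hom.app_smul φ r e)

lemma liftAt_ι (U : S.Opens) (e : Γ(E, U)) : liftAt B φ U (SymmetricAlgebra.ι _ _ e) = jv B φ U e :=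
  liftHom_ι _ _ _ e

lemma liftAt_algebraMap (U : S.Opens) (r : Γ(S, U)) :
    liftAt B φ U (algebraMap _ _ r) = (B.str.app (op U)).hom r := liftHom_algebraMap _ _ _ r

/-- The lift over the affine opens. -/
def liftRestrict : (Scheme.AffineZariskiSite.toOpensFunctor S).op ⋙ (symAlg hE).presheaf ⟶
    (Scheme.AffineZariskiSite.toOpensFunctor S).op ⋙ B.presheaf where
  app U := (symSec hE U.unop).hom ≫ CommRingCat.ofHom (liftAt B φ U.unop.1)
  naturality U V i := by
    have hi := Scheme.AffineZariskiSite.toOpens_mono (leOfHom i.unop)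
    show (symAlg hE).presheaf.map (homOfLE hi).op ≫ _ = _ ≫ B.presheaf.map (homOfLE hi).op
    rw [show (symSec hE V.unop).hom = secHom (symStr_coequifibered hE) V.unop from rfl, ← Category.assoc]
    erw [secHom_natural (symStr_coequifibered hE) i.unop]
    rw [Category.assoc, Category.assoc]
    refine congrArg (secHom (symStr_coequifibered hE) U.unop ≫ ·) ?_
    apply CommRingCat.hom_ext
    refine symHom_ext (E := E) (U := U.unop.1) (fun r => ?_) fun e => ?_
    · show liftAt B φ V.unop.1 (symRes hi (algebraMap _ _ r)) = rB B hi (liftAt B φ U.unop.1 (algebraMap _ _ r))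
      rw [symRes_algebraMap, liftAt_algebraMap, liftAt_algebraMap, rB_str]
    · show liftAt B φ V.unop.1 (symRes hi (SymmetricAlgebra.ι _ _ e)) = rB B hi (liftAt B φ U.unop.1 (SymmetricAlgebra.ι _ _ e))
      rw [symRes_ι, liftAt_ι, liftAt_ι]
      exact (rB_jv B φ hi e).symm

theorem isSymAlg_symAlg : RelSpec.IsSymAlg E (symAlg hE) (symJ hE) := by
  intro B φ
  let Bsh : TopCat.Sheaf CommRingCat.{u} S.carrier := ⟨B.presheaf, B.isSheaf⟩
  let e := Functor.IsCoverDense.restrictHomEquivHom (G := Scheme.AffineZariskiSite.toOpensFunctor S)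
    (K := Opens.grothendieckTopology S) (ℱ := (symAlg hE).presheaf) (ℱ' := Bsh)
  have happ : ∀ (U : S.Opens) (hU : IsAffineOpen U) (z : (symAlg hE).presheaf.obj (op U)),
      (e (liftRestrict hE B φ)).app (op U) z =
        liftAt B φ U ((symSec hE ⟨U, hU⟩).hom z) := fun U hU z =>
    ConcreteCategory.congr_hom (NatTrans.congr_app (e.symm_apply_apply (liftRestrict hE B φ)) (op ⟨U, hU⟩)) z
  have hcomm : (symAlg hE).str ≫ e (liftRestrict hE B φ) = B.str := by
    refine (Functor.IsCoverDense.restrictHomEquivHom (G := Scheme.AffineZariskiSite.toOpensFunctor S)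
      (K := Opens.grothendieckTopology S) (ℱ := S.presheaf) (ℱ' := Bsh)).symm.injective ?_
    ext U r
    show (e (liftRestrict hE B φ)).app (op U.unop.1) ((symAlg hE).str.app (op U.unop.1) r) = B.str.app (op U.unop.1) r
    rw [happ U.unop.1 U.unop.2]
    show liftAt B φ U.unop.1 (secHom (symStr_coequifibered hE) U.unop _) = _
    exact (congrArg _ (symStr_secHom hE U.unop.2 r)).trans (liftAt_algebraMap B φ _ r)
  refine ⟨⟨e (liftRestrict hE B φ), hcomm⟩, ?_, fun ψ hψ => ?_⟩
  · refine SheafOfModules.hom_ext (PresheafOfModules.hom_ext fun O => ModuleCat.hom_ext (LinearMap.ext fun z => ?_))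
    refine sub_eq_zero.1 (eq_zero_of_locally (M := B.toModule) O.unop _ fun x hx => ?_)
    obtain ⟨_, ⟨U, hU, rfl⟩, hxU, hUO⟩ := S.isBasis_affineOpens.exists_subset_of_mem_open hx O.unop.2
    refine ⟨U, homOfLE hUO, hxU, ?_⟩
    show rB B hUO ((e (liftRestrict hE B φ)).app O (jv (symAlg hE) (symJ hE) O.unop z) - jv B φ O.unop z) = 0
    rw [map_sub, sub_eq_zero, rB_jv,
      show rB B hUO ((e (liftRestrict hE B φ)).app O (jv (symAlg hE) (symJ hE) O.unop z)) =
          (e (liftRestrict hE B φ)).app (op U) (rB (symAlg hE) hUO (jv (symAlg hE) (symJ hE) O.unop z)) from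
        (ConcreteCategory.congr_hom ((e (liftRestrict hE B φ)).naturality (homOfLE hUO).op) _).symm,
      rB_jv, happ U hU, symJ_secHom hE hU, liftAt_ι]
  · refine RelSpec.QCAlg.Hom.ext (e.symm.injective ?_)
    rw [e.symm_apply_apply]
    ext U : 2
    rw [← cancel_epi (symSec hE U.unop).inv]
    show (symSec hE U.unop).inv ≫ ψ.hom.app (op U.unop.1) = (symSec hE U.unop).inv ≫ (symSec hE U.unop).hom ≫ _
    rw [Iso.inv_hom_id_assoc]
    apply CommRingCat.hom_ext
    refine symHom_ext (E := E) (U := U.unop.1) (fun r => ?_) fun x => ?_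
    · have h1 : (symSec hE U.unop).inv (algebraMap _ (SymAt E U.unop.1) r) =
          (symAlg hE).str.app (op U.unop.1) r := by
        apply (ConcreteCategory.bijective_of_isIso (symSec hE U.unop).hom).1
        rw [Iso.inv_hom_id_apply]
        exact (symStr_secHom hE U.unop.2 r).symm
      refine (congrArg (ψ.hom.app (op U.unop.1)).hom h1).trans (Eq.trans ?_ (liftAt_algebraMap B φ _ r).symm)
      exact ConcreteCategory.congr_hom (NatTrans.congr_app ψ.comm (op U.unop.1)) r
    · have h1 : (symSec hE U.unop).inv (SymmetricAlgebra.ι _ _ x) = jv (symAlg hE) (symJ hE) U.unop.1 x := by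
        apply (ConcreteCategory.bijective_of_isIso (symSec hE U.unop).hom).1
        rw [Iso.inv_hom_id_apply]
        exact (symJ_secHom hE U.unop.2 x).symm
      refine (congrArg (ψ.hom.app (op U.unop.1)).hom h1).trans (Eq.trans ?_ (liftAt_ι B φ _ x).symm)
      exact congrArg (fun α : E ⟶ B.toModule => α.app U.unop.1 x) hψ

include hE in
/-- Over an affine open a symmetric algebra has the sections of the symmetric algebra of the sections. -/
theorem liftAt_bijective {j : E ⟶ B.toModule} (hA : RelSpec.IsSymAlg E B j) {U : S.Opens}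
    (hU : IsAffineOpen U) : Function.Bijective (liftAt B j U) := by
  obtain ⟨ψ, hψ, -⟩ := hA (symAlg hE) (symJ hE)
  let k : B.presheaf.obj (op U) →+* SymAt E U := (symSec hE ⟨U, hU⟩).hom.hom.comp (ψ.hom.app (op U)).hom
  have hk : k.comp (liftAt B j U) = RingHom.id _ := by
    refine symHom_ext (fun r => ?_) fun e => ?_
    · show k (liftAt B j U (algebraMap _ _ r)) = algebraMap _ _ r
      rw [liftAt_algebraMap]
      refine (congrArg (symSec hE ⟨U, hU⟩).hom.hom
        (ConcreteCategory.congr_hom (NatTrans.congr_app ψ.comm (op U)) r)).trans ?_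
      exact symStr_secHom hE hU r
    · show k (liftAt B j U (SymmetricAlgebra.ι _ _ e)) = SymmetricAlgebra.ι _ _ e
      rw [liftAt_ι]
      refine (congrArg (symSec hE ⟨U, hU⟩).hom.hom
        (congrArg (fun α : E ⟶ (symAlg hE).toModule => α.app U e) hψ)).trans ?_
      exact symJ_secHom hE hU e
  refine ⟨Function.LeftInverse.injective (g := k) (RingHom.congr_fun hk), fun b => ?_⟩
  have hb : b ∈ genAt B j U := by rw [genAt_eq_top hE hA hU]; exact Subring.mem_top b
  refine (Subring.closure_le (t := (liftAt B j U).range)).2 ?_ hb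
  rintro x (⟨a, rfl⟩ | ⟨e, rfl⟩)
  · exact ⟨_, liftAt_algebraMap B j U a⟩
  · exact ⟨_, liftAt_ι B j U e⟩

end Groth.Agent.SymAlgX
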