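import Groth.Prelude.Def_RelSpec
import Groth.Agent.RelSpecX.Gamma

/-!
A quasi-coherent algebra from compatible algebras on the affine opens.
-/

noncomputable section

universe u

set_option backward.isDefEq.respectTransparency false
set_option backward.isDefEq.respectTransparency.types false

open CategoryTheory CategoryTheory.Limits AlgebraicGeometry TopologicalSpace Opposite

namespace Groth.Agent.SymAlgX

variable {S : Scheme.{u}} {F : S.AffineZariskiSiteᵒᵖ ⥤ CommRingCat.{u}}
  {φ : (Scheme.AffineZariskiSite.toOpensFunctor S).op ⋙ S.presheaf ⟶ F} (H : φ.Coequifibered)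

/-- The gluing datum. -/
abbrev gd : (Scheme.AffineZariskiSite.directedCover S).RelativeGluingData :=
  Scheme.AffineZariskiSite.relativeGluingData H

instance gd_locallyDirected : ((gd H).functor ⋙ Scheme.forget).IsLocallyDirected :=
  Scheme.Cover.RelativeGluingData.instIsLocallyDirectedI₀CompFunctorForgetOfIsThin ..

/-- The glued scheme. -/
abbrev tot : Scheme.{u} := (gd H).glued

/-- Its structure morphism. -/
abbrev totπ : tot H ⟶ S := (gd H).toBase

/-- The charts. -/
def totι (U : S.AffineZariskiSite) : Spec (F.obj (op U)) ⟶ tot H := (gd H).cover.f U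

instance (U : S.AffineZariskiSite) : IsOpenImmersion (totι H U) := (gd H).cover.map_prop _

lemma totι_π (U : S.AffineZariskiSite) :
    totι H U ≫ totπ H = Spec.map (φ.app (op U)) ≫ U.2.fromSpec := colimit.ι_desc _ _

lemma totπ_preimage (U : S.AffineZariskiSite) : totπ H ⁻¹ᵁ U.1 = (totι H U).opensRange := by
  simpa using! (gd H).toBase_preimage_eq_opensRange_ι U

lemma totι_res {U V : S.AffineZariskiSite} (i : V ⟶ U) :
    Spec.map (F.map i.op) ≫ totι H U = totι H V := colimit.w (gd H).functor i

instance isAffineHom_totπ : IsAffineHom (totπ H) where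
  isAffine_preimage U hU := by
    rw [totπ_preimage H ⟨U, hU⟩]
    exact isAffineOpen_opensRange (totι H ⟨U, hU⟩)

/-- The algebra. -/
def ofAffine : RelSpec.QCAlg S := RelSpec.QCAlg.directImage (totπ H)

lemma top_le (U : S.AffineZariskiSite) :
    (⊤ : (Spec (F.obj (op U))).Opens) ≤ totι H U ⁻¹ᵁ (totπ H ⁻¹ᵁ U.1) := by
  rw [totπ_preimage]
  rintro x -
  exact ⟨x, rfl⟩

/-- Its sections over an affine open. -/
def secHom (U : S.AffineZariskiSite) : (ofAffine H).presheaf.obj (op U.1) ⟶ F.obj (op U) :=
  (totι H U).appLE (totπ H ⁻¹ᵁ U.1) ⊤ (top_le H U) ≫ (Scheme.ΓSpecIso (F.obj (op U))).hom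

instance isIso_secHom (U : S.AffineZariskiSite) : IsIso (secHom H U) := by
  haveI : IsIso ((totι H U).appLE (totπ H ⁻¹ᵁ U.1) ⊤ (top_le H U)) :=
    RelSpecX.isIso_appLE_of_le_range _ _ _ (totπ_preimage H U).le (le_antisymm (top_le H U) le_top)
  exact inferInstanceAs (IsIso (_ ≫ _))

lemma secHom_natural {U V : S.AffineZariskiSite} (i : V ⟶ U) :
    (ofAffine H).presheaf.map (homOfLE (Scheme.AffineZariskiSite.toOpens_mono i.le)).op ≫ secHom H V =
      secHom H U ≫ F.map i.op := by
  change (tot H).presheaf.map (homOfLE ((totπ H).preimage_mono (Scheme.AffineZariskiSite.toOpens_mono i.le))).op ≫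
      secHom H V = secHom H U ≫ F.map i.op
  simp only [secHom, Category.assoc, ← Scheme.ΓSpecIso_naturality]
  simp only [← Category.assoc]
  congr 1
  simp only [Scheme.Hom.appTop, Scheme.Hom.appLE, Category.assoc]
  have h1 := (Scheme.Hom.comp_app (Spec.map (F.map i.op)) (totι H U) (totπ H ⁻¹ᵁ U.1)).symm
  rw [Scheme.Hom.naturality_assoc, Scheme.Hom.naturality, reassoc_of% h1,
    Scheme.Hom.congr_app (totι_res H i), Category.assoc, ← Functor.map_comp, ← Functor.map_comp]
  rfl

lemma str_secHom (U : S.AffineZariskiSite) :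
    (ofAffine H).str.app (op U.1) ≫ secHom H U = φ.app (op U) := by
  change (totπ H).app U.1 ≫ secHom H U = φ.app (op U)
  have h1 := Scheme.Hom.congr_app (totι_π H U) U.1
  have h2 := (Scheme.Hom.comp_app (totι H U) (totπ H) U.1).symm
  have hk : ∀ k : (op ⊤ : (Spec (F.obj (op U))).Opensᵒᵖ) ⟶ op ⊤,
      (Spec (F.obj (op U))).presheaf.map k = 𝟙 _ := fun k => by
    rw [Subsingleton.elim k (𝟙 _)]; exact CategoryTheory.Functor.map_id _ _
  simp only [secHom, Scheme.Hom.appLE, Category.assoc]
  rw [reassoc_of% h2, h1, Scheme.Hom.comp_app, U.2.fromSpec_app_self]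
  simp only [Category.assoc]
  rw [Scheme.Hom.naturality_assoc]
  simp only [← Functor.map_comp_assoc]
  erw [hk, Category.id_comp]
  rw [← cancel_epi (Scheme.ΓSpecIso Γ(S, U.1)).hom, Iso.hom_inv_id_assoc]
  erw [Scheme.ΓSpecIso_naturality]
  rfl

/-- The sections over the affine opens, naturally. -/
def secNatIso : (Scheme.AffineZariskiSite.toOpensFunctor S).op ⋙ (ofAffine H).presheaf ≅ F :=
  NatIso.ofComponents (fun U => @asIso _ _ _ _ (secHom H U.unop) (isIso_secHom H U.unop))
    fun {_ _} i => secHom_natural H i.unop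

end Groth.Agent.SymAlgX
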