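import Groth.Agent.SymAlgX.Exists

/-!
An algebra whose sections over the affine opens are the symmetric algebras of the sections of `E` is a
symmetric algebra of `E`.
-/

universe u

open CategoryTheory CategoryTheory.Limits AlgebraicGeometry TopologicalSpace Opposite

noncomputable section

namespace Groth.Agent.SymAlgX

set_option backward.isDefEq.respectTransparency false
set_option backward.isDefEq.respectTransparency.types false

variable {S : Scheme.{u}} {E : S.Modules}

theorem isSymAlg_of_liftAt_bijective (hE : Coh.IsQCoh E) (A : RelSpec.QCAlg S) (j : E ⟶ A.toModule)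
    (h : ∀ U : S.Opens, IsAffineOpen U → Function.Bijective (liftAt A j U)) :
    RelSpec.IsSymAlg E A j := by
  obtain ⟨α, hα, -⟩ := isSymAlg_symAlg hE A j
  have hsec : ∀ (U : S.Opens) (hU : IsAffineOpen U) (x : SymAt E U),
      (α.hom.app (op U)).hom ((symSec hE ⟨U, hU⟩).inv x) = liftAt A j U x := fun U hU x => by
    refine RingHom.congr_fun (symHom_ext
      (a := (α.hom.app (op U)).hom.comp (symSec hE ⟨U, hU⟩).inv.hom) (fun r => ?_) fun e => ?_) x
    · have h1 : (symSec hE ⟨U, hU⟩).inv (algebraMap _ (SymAt E U) r) = (symAlg hE).str.app (op U) r := by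
        apply (ConcreteCategory.bijective_of_isIso (symSec hE ⟨U, hU⟩).hom).1
        rw [Iso.inv_hom_id_apply]
        exact (symStr_secHom hE hU r).symm
      refine (congrArg (α.hom.app (op U)).hom h1).trans (Eq.trans ?_ (liftAt_algebraMap A j U r).symm)
      exact ConcreteCategory.congr_hom (NatTrans.congr_app α.comm (op U)) r
    · have h1 : (symSec hE ⟨U, hU⟩).inv (SymmetricAlgebra.ι _ _ e) = jv (symAlg hE) (symJ hE) U e := by
        apply (ConcreteCategory.bijective_of_isIso (symSec hE ⟨U, hU⟩).hom).1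
        rw [Iso.inv_hom_id_apply]
        exact (symJ_secHom hE hU e).symm
      refine (congrArg (α.hom.app (op U)).hom h1).trans (Eq.trans ?_ (liftAt_ι A j U e).symm)
      exact congrArg (fun β : E ⟶ A.toModule => β.app U e) hα
  have hbij : ∀ (U : S.Opens) (hU : IsAffineOpen U), IsIso (α.hom.app (op U)) := fun U hU => by
    rw [ConcreteCategory.isIso_iff_bijective]
    have h2 := (h U hU).comp (ConcreteCategory.bijective_of_isIso (symSec hE ⟨U, hU⟩).hom)
    convert h2 using 1
    funext y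
    show _ = liftAt A j U ((symSec hE ⟨U, hU⟩).hom y)
    rw [← hsec U hU, Iso.hom_inv_id_apply]
  let αs : (⟨(symAlg hE).presheaf, (symAlg hE).isSheaf⟩ : TopCat.Sheaf CommRingCat.{u} S.carrier) ⟶
      ⟨A.presheaf, A.isSheaf⟩ := ⟨α.hom⟩
  have hw : IsIso (Functor.whiskerLeft (Scheme.AffineZariskiSite.toOpensFunctor S).op αs.hom) :=
    have : ∀ V, IsIso ((Functor.whiskerLeft (Scheme.AffineZariskiSite.toOpensFunctor S).op αs.hom).app V) :=
      fun V => hbij V.unop.1 V.unop.2
    NatIso.isIso_of_isIso_app _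
  have : IsIso αs := Functor.IsCoverDense.iso_of_restrict_iso
    (G := Scheme.AffineZariskiSite.toOpensFunctor S) (K := Opens.grothendieckTopology S) αs hw
  have : IsIso α.hom := (TopCat.Sheaf.forget CommRingCat.{u} S.carrier).map_isIso αs
  let β : A ⟶ symAlg hE := ⟨inv α.hom, (IsIso.comp_inv_eq α.hom).2 α.comm.symm⟩
  have hαβ : α ≫ β = 𝟙 _ := RelSpec.QCAlg.Hom.ext (IsIso.hom_inv_id α.hom)
  have hβα : β ≫ α = 𝟙 _ := RelSpec.QCAlg.Hom.ext (IsIso.inv_hom_id α.hom)
  have hmap : ∀ {A B C : RelSpec.QCAlg S} (a : A ⟶ B) (b : B ⟶ C), RelSpec.QCAlg.Hom.toModuleMap (a ≫ b) =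
      RelSpec.QCAlg.Hom.toModuleMap a ≫ RelSpec.QCAlg.Hom.toModuleMap b := fun a b =>
    SheafOfModules.hom_ext (PresheafOfModules.hom_ext fun _ => rfl)
  intro B φ
  obtain ⟨ψ, hψ, hu⟩ := isSymAlg_symAlg hE B φ
  refine ⟨β ≫ ψ, ?_, fun χ hχ => ?_⟩
  · show j ≫ _ = φ
    rw [← hα, Category.assoc, ← hmap, ← Category.assoc α, hαβ, Category.id_comp, hψ]
  · have : α ≫ χ = ψ := hu _ (by
      show symJ hE ≫ _ = φ
      rw [hmap, ← Category.assoc, hα, hχ])
    rw [← this, ← Category.assoc, hβα, Category.id_comp]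

end Groth.Agent.SymAlgX
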